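import Mathlib
import Groth.Agent.Lib.Helper5.EtSrc.FiniteType

/-!
# Properties of morphisms of schemes that are smooth local on the source (helper3)

`IsSmoothLocalSource P`: if `g` is smooth and surjective and `g ≫ f` has `P` then `f` has `P`.
Parallel to helper5's `IsEtaleLocalSource`; the proofs for flat and locally of finite type are
adaptations, with `Algebra.Smooth.exists_subalgebra_fg` in place of the étale version.
-/

set_option autoImplicit false

universe u

open CategoryTheory CategoryTheory.Limits AlgebraicGeometry MorphismProperty TensorProduct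

namespace Groth.Agent.H3.SmSrc

open Groth.Agent.H5.EtSrc

/-- `P` is smooth local on the source (descent part). -/
class IsSmoothLocalSource (P : MorphismProperty Scheme.{u}) : Prop where
  of_comp {U' U V : Scheme.{u}} (g : U' ⟶ U) (f : U ⟶ V) :
    Smooth g → Surjective g → P (g ≫ f) → P f

instance (P Q : MorphismProperty Scheme.{u}) [IsSmoothLocalSource P]
    [IsSmoothLocalSource Q] : IsSmoothLocalSource (P ⊓ Q) where
  of_comp g f hg hs h :=
    ⟨IsSmoothLocalSource.of_comp g f hg hs h.1, IsSmoothLocalSource.of_comp g f hg hs h.2⟩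

theorem isSmoothLocalSource_of_ringHom {P : MorphismProperty Scheme.{u}}
    {Q : ∀ {R S : Type u} [CommRing R] [CommRing S], (R →+* S) → Prop}
    [HasRingHomProperty P Q]
    (hQ : ∀ {A B C : Type u} [CommRing A] [CommRing B] [CommRing C] (φ : A →+* B) (ψ : B →+* C),
      ψ.Smooth → Function.Surjective (PrimeSpectrum.comap ψ) → Q (ψ.comp φ) → Q φ) :
    IsSmoothLocalSource P := by
  constructor
  intro U' U V g f hg hs h
  wlog hV : ∃ A, V = Spec A generalizing U' U V
  · rw [IsZariskiLocalAtTarget.iff_of_openCover (P := P) V.affineCover]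
    intro i
    refine this (pullback.snd g (pullback.fst f (V.affineCover.f i)))
      (pullback.snd f (V.affineCover.f i)) inferInstance inferInstance ?_ ⟨_, rfl⟩
    have sq := (IsPullback.of_hasPullback g (pullback.fst f (V.affineCover.f i))).paste_vert
      (IsPullback.of_hasPullback f (V.affineCover.f i))
    exact IsZariskiLocalAtTarget.of_isPullback sq h
  obtain ⟨A, rfl⟩ := hV
  wlog hU : ∃ B, U = Spec B generalizing U' U
  · rw [IsZariskiLocalAtSource.iff_of_openCover (P := P) U.affineCover]
    intro i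
    refine this (pullback.snd g (U.affineCover.f i)) inferInstance inferInstance
      (U.affineCover.f i ≫ f) ?_ ⟨_, rfl⟩
    rw [← Category.assoc, ← pullback.condition, Category.assoc]
    exact IsZariskiLocalAtSource.comp h _
  obtain ⟨B, rfl⟩ := hU
  have hgo : IsOpenMap g := g.isOpenMap
  obtain ⟨W₀ : U'.Opens, hW₀, e⟩ := hgo.exists_opens_image_eq_of_prespectralSpace
    g.continuous (by simp [Set.range_eq_univ.mpr g.surjective]) isOpen_univ isCompact_univ
  have : CompactSpace ↥(W₀ : Scheme.{u}) := isCompact_iff_compactSpace.mp hW₀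
  obtain ⟨Y, p, hp1, hp2, hY⟩ :=
    Scheme.exists_hom_isAffine_of_isZariskiLocalAtSource @IsLocalIso (W₀ : Scheme.{u})
  have hι : IsLocalIso W₀.ι := ⟨fun x => ⟨⊤, trivial, inferInstance⟩⟩
  have hp2' : IsLocalIso (p ≫ W₀.ι) := MorphismProperty.comp_mem _ _ _ hp2 hι
  have h1 : P ((p ≫ W₀.ι) ≫ g ≫ f) := comp_of_isLocalIso _ _ h
  have : MorphismProperty.ContainsIdentities (@Smooth : MorphismProperty Scheme.{u}) :=
    ⟨fun X => inferInstanceAs (Smooth (𝟙 X))⟩
  have hq_et : Smooth ((p ≫ W₀.ι) ≫ g) :=
    MorphismProperty.comp_mem _ _ _ (IsLocalIso.le_of_isZariskiLocalAtSource @Smooth _ _ _ hp2') hg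
  have hq_surj : Surjective ((p ≫ W₀.ι) ≫ g) := by
    refine ⟨fun b => ?_⟩
    have hb : b ∈ g '' (W₀ : Set U') := by rw [e]; trivial
    obtain ⟨w, hw, rfl⟩ := hb
    obtain ⟨y, hy⟩ := hp1.surj ⟨w, hw⟩
    refine ⟨y, ?_⟩
    rw [Scheme.Hom.comp_apply, Scheme.Hom.comp_apply, hy]
    rfl
  obtain ⟨φ, rfl⟩ := Spec.map_surjective f
  obtain ⟨ψ, hψ⟩ := Spec.map_surjective (Y.isoSpec.inv ≫ (p ≫ W₀.ι) ≫ g)
  have hψ_et : Smooth (Spec.map ψ) := by rw [hψ]; infer_instance
  have hψ_surj : Surjective (Spec.map ψ) := by rw [hψ]; infer_instance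
  have h2 : P (Spec.map ψ ≫ Spec.map φ) := by
    rw [hψ, Category.assoc, P.cancel_left_of_respectsIso]
    simpa using h1
  rw [← Spec.map_comp, HasRingHomProperty.Spec_iff (P := P)] at h2
  rw [HasRingHomProperty.Spec_iff (P := P)]
  rw [HasRingHomProperty.Spec_iff (P := @Smooth)] at hψ_et
  exact hQ φ.hom ψ.hom hψ_et (Spec.map ψ).surjective h2

/-- Translate the ring hom hypotheses into algebra instances. -/
lemma faithfullyFlat_of_smooth_of_comap_surjective {B C : Type u} [CommRing B] [CommRing C]
    [Algebra B C] [Algebra.Smooth B C]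
    (h : Function.Surjective (PrimeSpectrum.comap (algebraMap B C))) :
    Module.FaithfullyFlat B C :=
  Module.FaithfullyFlat.of_comap_surjective h

instance isSmoothLocalSource_flat : IsSmoothLocalSource (@Flat : MorphismProperty Scheme.{u}) := by
  refine isSmoothLocalSource_of_ringHom (Q := RingHom.Flat) ?_
  intro A B C _ _ _ φ ψ hψ hs h
  algebraize [φ, ψ, ψ.comp φ]
  have := faithfullyFlat_of_smooth_of_comap_surjective (B := B) (C := C) hs
  exact flat_of_flat_of_faithfullyFlat (A := A) (B := B) (C := C)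

/-- Finite type descends along a smooth faithfully flat extension of the source. -/
theorem finiteType_of_smooth_of_faithfullyFlat {A B C : Type u} [CommRing A] [CommRing B]
    [CommRing C] [Algebra A B] [Algebra B C] [Algebra A C] [IsScalarTower A B C]
    [Algebra.Smooth B C] [Module.FaithfullyFlat B C] [Algebra.FiniteType A C] :
    Algebra.FiniteType A B := by
  obtain ⟨B₀, C₀, _, _, hfg, _, ⟨e⟩⟩ := Algebra.Smooth.exists_subalgebra_fg A B C
  have po := CommRingCat.isPushout_tensorProduct B₀ B C₀
  have pb := isPullback_SpecMap_of_isPushout _ _ _ _ po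
  -- faithful flatness of `B ⊗[B₀] C₀` over `B`
  have hff : Module.FaithfullyFlat B (B ⊗[B₀] C₀) :=
    Module.FaithfullyFlat.of_linearEquiv B C e.symm.toLinearEquiv
  have hsurj : Surjective (Spec.map (CommRingCat.ofHom
      (Algebra.TensorProduct.includeLeftRingHom : B →+* B ⊗[B₀] C₀))) :=
    ⟨PrimeSpectrum.comap_surjective_of_faithfullyFlat (A := B) (B := B ⊗[B₀] C₀)⟩
  -- `B ⊗[B₀] C₀` is of finite type over `A`
  have hft : Algebra.FiniteType A (B ⊗[B₀] C₀) :=
    Algebra.FiniteType.equiv ‹_› (e.restrictScalars A)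
  -- the smooth map `Spec C₀ ⟶ Spec B₀`
  have het : Smooth (Spec.map (CommRingCat.ofHom (algebraMap B₀ C₀))) := by
    rw [HasRingHomProperty.Spec_iff (P := @Smooth)]
    exact RingHom.smooth_algebraMap.mpr inferInstance
  -- the map `Spec (B ⊗ C₀) ⟶ Spec C₀` is locally of finite type
  have hi : LocallyOfFiniteType (Spec.map (CommRingCat.ofHom
      (Algebra.TensorProduct.includeRight.toRingHom : C₀ →+* B ⊗[B₀] C₀))) := by
    rw [HasRingHomProperty.Spec_iff (P := @LocallyOfFiniteType)]
    have h1 : (algebraMap A (B ⊗[B₀] C₀)).FiniteType := RingHom.finiteType_algebraMap.mpr hft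
    have h2 : algebraMap A (B ⊗[B₀] C₀) =
        (Algebra.TensorProduct.includeRight.toRingHom : C₀ →+* B ⊗[B₀] C₀).comp
          ((algebraMap B₀ C₀).comp (algebraMap A B₀)) := by
      ext a
      simp only [RingHom.coe_comp, Function.comp_apply, AlgHom.toRingHom_eq_coe, RingHom.coe_coe,
        Algebra.TensorProduct.includeRight_apply, Algebra.TensorProduct.algebraMap_apply]
      rw [Algebra.algebraMap_eq_smul_one (algebraMap A B₀ a), ← TensorProduct.smul_tmul]
      congr 1
      rw [Algebra.smul_def, mul_one]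
      rfl
    rw [h2] at h1
    exact RingHom.FiniteType.of_comp_finiteType h1
  have hj : LocallyOfFiniteType (Spec.map (CommRingCat.ofHom (algebraMap B₀ B))) :=
    of_isPullback_of_flat_lfp (P := @LocallyOfFiniteType)
      (fun f g _ hf => by have : LocallyOfFiniteType f := hf; infer_instance) pb hi
  rw [HasRingHomProperty.Spec_iff (P := @LocallyOfFiniteType)] at hj
  have h0 : (algebraMap A B₀).FiniteType :=
    RingHom.finiteType_algebraMap.mpr ((Subalgebra.fg_iff_finiteType B₀).mp hfg)
  have hj' : (algebraMap B₀ B).FiniteType := hj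
  have := RingHom.FiniteType.comp hj' h0
  rw [← RingHom.finiteType_algebraMap]
  exact this

instance isSmoothLocalSource_locallyOfFiniteType :
    IsSmoothLocalSource (@LocallyOfFiniteType : MorphismProperty Scheme.{u}) := by
  refine isSmoothLocalSource_of_ringHom (Q := RingHom.FiniteType) ?_
  intro A B C _ _ _ φ ψ hψ hs h
  algebraize [φ, ψ, ψ.comp φ]
  have := faithfullyFlat_of_smooth_of_comap_surjective (B := B) (C := C) hs
  exact finiteType_of_smooth_of_faithfullyFlat (A := A) (B := B) (C := C)

end Groth.Agent.H3.SmSrc
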