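import Mathlib
import Groth.Agent.Lib.Helper3.SmSrc.Basic
import Groth.Agent.Lib.Helper3.SmSrc.Lifting
import Groth.Agent.Lib.Helper5.EtSrc.FinitePresentation

/-!
# Locally of finite presentation is smooth local on the source (helper3)
-/

set_option autoImplicit false

universe u

open CategoryTheory CategoryTheory.Limits AlgebraicGeometry MorphismProperty TensorProduct

namespace Groth.Agent.H3.SmSrc

open Groth.Agent.H5.EtSrc

/-- Variant of helper5's `of_isPullback_of_flat_lfp` without surjectivity of the projection: the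
conclusion holds on every open contained in the image of the projection. -/
theorem of_isPullback_of_flat_lfp' {P : MorphismProperty Scheme.{u}}
    [P.DescendsAlong (@Surjective ⊓ @Flat ⊓ @LocallyOfFinitePresentation)]
    (hP : ∀ {X Y Z : Scheme.{u}} (f : X ⟶ Y) (g : Y ⟶ Z), IsOpenImmersion g → P f → P (f ≫ g))
    (hP' : ∀ {X Y Z : Scheme.{u}} (f : X ⟶ Y) (g : Y ⟶ Z), IsOpenImmersion f → P g → P (f ≫ g))
    {X' X Y' Y : Scheme.{u}} {pr : X' ⟶ X} {i : X' ⟶ Y'} {j : X ⟶ Y} {e : Y' ⟶ Y}
    (sq : IsPullback pr i j e) [Flat e] [LocallyOfFinitePresentation e]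
    (hi : P i) (O : X.Opens) (hO : (O : Set X) ⊆ Set.range pr) : P (O.ι ≫ j) := by
  have sq1 : IsPullback (pr ∣_ O) (pr ⁻¹ᵁ O).ι O.ι pr := isPullback_morphismRestrict pr O
  have sq2 : IsPullback (pr ∣_ O) ((pr ⁻¹ᵁ O).ι ≫ i) (O.ι ≫ j) e :=
    (sq1.flip.paste_horiz sq.flip).flip
  have hs : Surjective (pr ∣_ O) := by
    refine ⟨fun x => ?_⟩
    obtain ⟨x', hx'⟩ := hO x.2
    have hx'' : x' ∈ pr ⁻¹ᵁ O := by
      show pr x' ∈ O
      rw [hx']; exact x.2
    refine ⟨⟨x', hx''⟩, ?_⟩
    apply O.ι.isOpenEmbedding.injective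
    rw [← Scheme.Hom.comp_apply, morphismRestrict_ι, Scheme.Hom.comp_apply]
    exact hx'
  exact of_isPullback_of_flat_lfp (P := P) hP sq2 (hP' _ _ inferInstance hi)

/-- Key case: a closed immersion `Spec (R ⧸ I) ⟶ Spec R` is locally of finite presentation on
the image of a standard smooth `Spec C ⟶ Spec (R ⧸ I)` with `C` finitely presented over `R`. -/
theorem lfp_of_standardSmooth_quotient {R C : Type u} [CommRing R] [CommRing C] (I : Ideal R)
    [Algebra (R ⧸ I) C] [Algebra R C] [IsScalarTower R (R ⧸ I) C]
    [Algebra.IsStandardSmooth (R ⧸ I) C] [Algebra.FinitePresentation R C]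
    (O : (Spec (CommRingCat.of (R ⧸ I))).Opens)
    (hO : (O : Set (Spec (CommRingCat.of (R ⧸ I)))) ⊆
      Set.range (Spec.map (CommRingCat.ofHom (algebraMap (R ⧸ I) C)))) :
    LocallyOfFinitePresentation (O.ι ≫ Spec.map (CommRingCat.ofHom (algebraMap R (R ⧸ I)))) := by
  obtain ⟨E, _, _, hE, ψ, hψs, hker⟩ :=
    exists_standardSmooth_lift (R := R) (B := R ⧸ I) (C := C) Ideal.Quotient.mk_surjective
  have hI : RingHom.ker (algebraMap R (R ⧸ I)) = I := by
    rw [Ideal.Quotient.algebraMap_eq, Ideal.mk_ker]
  rw [hI] at hker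
  let _ : Algebra E C := ψ.toRingHom.toAlgebra
  have : IsScalarTower R E C := .of_algebraMap_eq' ψ.comp_algebraMap.symm
  have hfg : (I.map (algebraMap R E)).FG := by
    rw [← hker]
    exact Algebra.FinitePresentation.ker_fG_of_surjective ψ hψs
  have hs : Function.Surjective (algebraMap E C) := hψs
  have hk : RingHom.ker (algebraMap E C) = I.map (algebraMap R E) := hker
  have po : Algebra.IsPushout R (R ⧸ I) E C := (isPushout_quotient I hs hk).symm
  have pb := isPullback_SpecMap_of_isPushout _ _ _ _
    (CommRingCat.isPushout_of_isPushout R (R ⧸ I) E C)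
  have hsm : Smooth (Spec.map (CommRingCat.ofHom (algebraMap R E))) := by
    rw [HasRingHomProperty.Spec_iff (P := @Smooth)]
    exact RingHom.smooth_algebraMap.mpr inferInstance
  have hi : LocallyOfFinitePresentation (Spec.map (CommRingCat.ofHom (algebraMap E C))) := by
    rw [HasRingHomProperty.Spec_iff (P := @LocallyOfFinitePresentation)]
    exact RingHom.FinitePresentation.of_surjective (algebraMap E C) hs (by rw [hk]; exact hfg)
  exact of_isPullback_of_flat_lfp' (P := @LocallyOfFinitePresentation)
    (fun f g _ hf => by have : LocallyOfFinitePresentation f := hf; infer_instance)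
    (fun f g _ hg => by have : LocallyOfFinitePresentation g := hg; infer_instance) pb hi O hO

/-- Key case of descent of finite presentation along smooth surjective maps: the kernel is
finitely generated. -/
theorem fg_of_smooth_quotient {R C : Type u} [CommRing R] [CommRing C] (I : Ideal R)
    [Algebra (R ⧸ I) C] [Algebra R C] [IsScalarTower R (R ⧸ I) C]
    [Algebra.Smooth (R ⧸ I) C]
    (hsurj : Function.Surjective (PrimeSpectrum.comap (algebraMap (R ⧸ I) C)))
    [Algebra.FinitePresentation R C] : I.FG := by
  have hloc : RingHom.Locally RingHom.IsStandardSmooth (algebraMap (R ⧸ I) C) :=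
    RingHom.smooth_iff_locally_isStandardSmooth.mp (RingHom.smooth_algebraMap.mpr inferInstance)
  obtain ⟨s, hs, h⟩ := hloc
  -- the opens
  have hsm : ∀ t : C, Smooth (Spec.map (CommRingCat.ofHom
      (algebraMap (R ⧸ I) (Localization.Away t)))) := by
    intro t
    rw [HasRingHomProperty.Spec_iff (P := @Smooth)]
    have : Algebra.Smooth (R ⧸ I) (Localization.Away t) :=
      Algebra.Smooth.comp (R ⧸ I) C (Localization.Away t)
    exact RingHom.smooth_algebraMap.mpr inferInstance
  let O : s → (Spec (CommRingCat.of (R ⧸ I))).Opens := fun t =>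
    ⟨Set.range (Spec.map (CommRingCat.ofHom (algebraMap (R ⧸ I) (Localization.Away t.1)))),
      (Spec.map (CommRingCat.ofHom
        (algebraMap (R ⧸ I) (Localization.Away t.1)))).isOpenMap.isOpen_range⟩
  have hO : iSup O = ⊤ := by
    rw [eq_top_iff]
    intro x _
    obtain ⟨y, hy⟩ := hsurj x
    obtain ⟨t, hts, hty⟩ : ∃ t ∈ s, t ∉ y.asIdeal := by
      by_contra hcon
      push Not at hcon
      have h1 : Ideal.span s ≤ y.asIdeal := Ideal.span_le.mpr hcon
      rw [hs] at h1
      exact y.isPrime.ne_top (top_le_iff.mp h1)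
    have h2 : y ∈ Set.range (PrimeSpectrum.comap (algebraMap C (Localization.Away t))) := by
      rw [PrimeSpectrum.localization_away_comap_range (Localization.Away t) t]
      exact hty
    obtain ⟨z, hz⟩ := h2
    rw [TopologicalSpace.Opens.mem_iSup]
    refine ⟨⟨t, hts⟩, z, ?_⟩
    show PrimeSpectrum.comap (algebraMap (R ⧸ I) (Localization.Away t)) z = x
    rw [IsScalarTower.algebraMap_eq (R ⧸ I) C (Localization.Away t), ← hy, ← hz]
    rfl
  have key : ∀ t : s, LocallyOfFinitePresentation
      ((O t).ι ≫ Spec.map (CommRingCat.ofHom (algebraMap R (R ⧸ I)))) := by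
    intro t
    have h1 := h t.1 t.2
    have h2 : (algebraMap C (Localization.Away t.1)).comp (algebraMap (R ⧸ I) C) =
        algebraMap (R ⧸ I) (Localization.Away t.1) :=
      (IsScalarTower.algebraMap_eq (R ⧸ I) C (Localization.Away t.1)).symm
    rw [h2] at h1
    have : Algebra.IsStandardSmooth (R ⧸ I) (Localization.Away t.1) :=
      RingHom.isStandardSmooth_algebraMap.mp h1
    have : Algebra.FinitePresentation C (Localization.Away t.1) :=
      IsLocalization.Away.finitePresentation t.1
    have : Algebra.FinitePresentation R (Localization.Away t.1) :=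
      Algebra.FinitePresentation.trans R C (Localization.Away t.1)
    exact lfp_of_standardSmooth_quotient I (C := Localization.Away t.1) (O t) (le_refl _)
  have hj : LocallyOfFinitePresentation (Spec.map (CommRingCat.ofHom (algebraMap R (R ⧸ I)))) :=
    IsZariskiLocalAtSource.of_iSup_eq_top (P := @LocallyOfFinitePresentation) O hO key
  rw [HasRingHomProperty.Spec_iff (P := @LocallyOfFinitePresentation)] at hj
  have hj' : (algebraMap R (R ⧸ I)).FinitePresentation := hj
  have : Algebra.FinitePresentation R (R ⧸ I) := RingHom.finitePresentation_algebraMap.mp hj'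
  have := Algebra.FinitePresentation.ker_fG_of_surjective (Ideal.Quotient.mkₐ R I)
    Ideal.Quotient.mk_surjective
  simpa using this

/-- Finite presentation descends along a smooth faithfully flat extension of the source. -/
theorem finitePresentation_of_smooth_of_faithfullyFlat {A B C : Type u} [CommRing A] [CommRing B]
    [CommRing C] [Algebra A B] [Algebra B C] [Algebra A C] [IsScalarTower A B C]
    [Algebra.Smooth B C] [Module.FaithfullyFlat B C] [Algebra.FinitePresentation A C] :
    Algebra.FinitePresentation A B := by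
  have hft : Algebra.FiniteType A B := finiteType_of_smooth_of_faithfullyFlat (C := C)
  obtain ⟨n, π, hπ⟩ := Algebra.FiniteType.iff_quotient_mvPolynomial''.mp hft
  let e' : (MvPolynomial (Fin n) A ⧸ RingHom.ker π) ≃ₐ[A] B :=
    Ideal.quotientKerAlgEquivOfSurjective hπ
  let _ : Algebra (MvPolynomial (Fin n) A ⧸ RingHom.ker π) C :=
    ((algebraMap B C).comp (e' : _ →+* B)).toAlgebra
  let _ : Algebra (MvPolynomial (Fin n) A) C := ((algebraMap B C).comp (π : _ →+* B)).toAlgebra
  have : IsScalarTower (MvPolynomial (Fin n) A) (MvPolynomial (Fin n) A ⧸ RingHom.ker π) C := by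
    refine IsScalarTower.of_algebraMap_eq (R := MvPolynomial (Fin n) A)
      (S := MvPolynomial (Fin n) A ⧸ RingHom.ker π) (A := C) (fun x => ?_)
    simp only [RingHom.algebraMap_toAlgebra, RingHom.coe_comp, Function.comp_apply,
      Ideal.Quotient.algebraMap_eq]
    rfl
  have : IsScalarTower A (MvPolynomial (Fin n) A) C := by
    refine IsScalarTower.of_algebraMap_eq (R := A) (S := MvPolynomial (Fin n) A) (A := C)
      (fun a => ?_)
    simp only [RingHom.algebraMap_toAlgebra, RingHom.coe_comp, Function.comp_apply]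
    rw [IsScalarTower.algebraMap_apply A B C]
    congr 1
    exact (π.commutes a).symm
  have : Algebra.Smooth (MvPolynomial (Fin n) A ⧸ RingHom.ker π) C := by
    rw [← RingHom.smooth_algebraMap]
    exact RingHom.Smooth.propertyIsLocal.respectsIso.2 (algebraMap B C) e'.toRingEquiv
      (RingHom.smooth_algebraMap.mpr inferInstance)
  have : Module.FaithfullyFlat (MvPolynomial (Fin n) A ⧸ RingHom.ker π) C := by
    rw [← RingHom.faithfullyFlat_algebraMap_iff]
    exact RingHom.FaithfullyFlat.respectsIso.2 (algebraMap B C) e'.toRingEquiv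
      (RingHom.faithfullyFlat_algebraMap_iff.mpr inferInstance)
  have : Algebra.FinitePresentation (MvPolynomial (Fin n) A) C :=
    Algebra.FinitePresentation.of_restrict_scalars_finitePresentation A _ _
  have hfg : (RingHom.ker π).FG :=
    fg_of_smooth_quotient (R := MvPolynomial (Fin n) A) _ (C := C)
      (PrimeSpectrum.comap_surjective_of_faithfullyFlat
        (A := MvPolynomial (Fin n) A ⧸ RingHom.ker π) (B := C))
  have : Algebra.FinitePresentation A (MvPolynomial (Fin n) A ⧸ RingHom.ker π) :=
    Algebra.FinitePresentation.quotient hfg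
  exact Algebra.FinitePresentation.equiv e'

instance isSmoothLocalSource_locallyOfFinitePresentation :
    IsSmoothLocalSource (@LocallyOfFinitePresentation : MorphismProperty Scheme.{u}) := by
  refine isSmoothLocalSource_of_ringHom (Q := RingHom.FinitePresentation) ?_
  intro A B C _ _ _ φ ψ hψ hs h
  algebraize [φ, ψ, ψ.comp φ]
  have := faithfullyFlat_of_smooth_of_comap_surjective (B := B) (C := C) hs
  exact finitePresentation_of_smooth_of_faithfullyFlat (A := A) (B := B) (C := C)

end Groth.Agent.H3.SmSrc
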