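import Mathlib
import Groth.Agent.Lib.Helper3.SmSrc.Lfp
import Groth.Agent.Lib.Helper3.AlgSpCov.SmoothST
import Groth.Agent.Lib.Helper3.AlgSpCov.LocPBaseInst
import Groth.Agent.Lib.Helper3.AlgSpCov.Source
import Groth.Agent.Lib.Helper3.AlgSpCov.Covers

/-!
# `LocP P` is smooth local on the source-and-target for `P` flat, locally of finite type,
locally of finite presentation (helper3)
-/

set_option autoImplicit false

universe u

open CategoryTheory CategoryTheory.Limits AlgebraicGeometry MorphismProperty Opposite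

namespace Groth.Agent.H3.SmSrc

open _root_.AlgSp Groth.Agent.H5.AlgSp Groth.Agent.H5.EtSrc Groth.Agent.H3.AlgSpCov

variable {S : Scheme.{u}}

/-- Scheme level: a property smooth local and Zariski local on the source can be checked on a
jointly surjective smooth family. -/
theorem prop_of_smooth_family {P : MorphismProperty Scheme.{u}} [IsSmoothLocalSource P]
    [IsZariskiLocalAtSource P] {U V : Scheme.{u}} (h : U ⟶ V) (K : Type u)
    (Uk : K → Scheme.{u}) (d : ∀ k, Uk k ⟶ U) (hd : ∀ k, Smooth (d k))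
    (hs : ∀ u : U, ∃ k, u ∈ Set.range (d k)) (hc : ∀ k, P (d k ≫ h)) : P h := by
  refine IsSmoothLocalSource.of_comp (Sigma.desc d) h ?_ ⟨fun u => ?_⟩ ?_
  · exact IsZariskiLocalAtSource.sigmaDesc (P := @Smooth) hd
  · obtain ⟨k, w, hw⟩ := hs u
    refine ⟨Sigma.ι Uk k w, ?_⟩
    rw [← Scheme.Hom.comp_apply, Sigma.ι_desc, hw]
  · have : Sigma.desc d ≫ h = Sigma.desc fun k => d k ≫ h := by
      ext k
      simp
    rw [this]
    exact IsZariskiLocalAtSource.sigmaDesc (P := P) hc

lemma smooth_le_flat' : (@Smooth : MorphismProperty Scheme.{u}) ≤ @Flat :=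
  fun _ _ f hf => by have : Smooth f := hf; infer_instance

lemma smooth_le_lfp' : (@Smooth : MorphismProperty Scheme.{u}) ≤ @LocallyOfFinitePresentation :=
  fun _ _ f hf => by have : Smooth f := hf; infer_instance

lemma smooth_le_lft' : (@Smooth : MorphismProperty Scheme.{u}) ≤ @LocallyOfFiniteType :=
  fun _ _ f hf => by have : Smooth f := hf; infer_instance

section Generic

variable {P : MorphismProperty Scheme.{u}} [P.IsStableUnderBaseChange]
  [P.IsStableUnderComposition] [IsEtaleLocalSource P] [IsSmoothLocalSource P]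
  [IsZariskiLocalAtSource P]

theorem isLocalOnSource_sm_locP (hP : (@Smooth : MorphismProperty Scheme.{u}) ≤ P) :
    IsLocalOnSource (IsSmCover (S := S)) (LocP P) := by
  intro ι X Xi g hX hXi hcov Y f hY
  constructor
  · intro hf i
    refine locP_comp (etale_le_smooth.trans hP) (hXi i) hX hY ?_ hf
    intro U V a b h ha hb comm
    exact hP _ _ _ (hcov.1 i a b h ha hb comm)
  · intro hf
    exact locP_of_source_family (P := P) (𝒟 := @Smooth) etale_le_smooth
      (fun h K Uk d hd hs hc => prop_of_smooth_family h K Uk d hd hs hc) hX Xi hXi g hcov.1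
      hcov.2 f hf

theorem isFppfCover_of_isSmCover {X : Sp S} {ι : Type u} (Xi : ι → Sp S) (g : ∀ i, Xi i ⟶ X)
    (h : IsSmCover Xi g) : IsFppfCover Xi g :=
  ⟨fun i => ⟨fun U V a b k ha hb comm => smooth_le_flat' _ _ _ (h.1 i a b k ha hb comm),
    fun U V a b k ha hb comm => smooth_le_lfp' _ _ _ (h.1 i a b k ha hb comm)⟩, h.2⟩

theorem isLocalOnBase_sm_of_fpqc {Q : MorphismProperty (Sp S)}
    (h : IsLocalOnBase (IsFpqcCover (S := S)) Q) : IsLocalOnBase (IsSmCover (S := S)) Q := by
  intro ι Y Yi g hY hYi hcov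
  exact h Yi g hY hYi (isFpqcCover_of_isFppfCover hY Yi hYi g (isFppfCover_of_isSmCover Yi g hcov))

theorem isSmoothLocalST_locP (hP : (@Smooth : MorphismProperty Scheme.{u}) ≤ P)
    [IsZariskiLocalAtTarget P] [P.DescendsAlong (@Surjective ⊓ @Flat ⊓ @QuasiCompact)] :
    IsSmoothLocalST (LocP (S := S) P) :=
  isSmoothLocalST_of_local _ (isLocalOnSource_sm_locP hP)
    (isLocalOnBase_sm_of_fpqc (isLocalOnBase_fpqc_locP (etale_le_smooth.trans hP)))
    (fun X Y Z hX hY hZ f g hf hg => by
      refine locP_comp (etale_le_smooth.trans hP) hX hY hZ hf ?_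
      intro U V a b h ha hb comm
      exact hP _ _ _ (hg a b h ha hb comm))

end Generic

theorem isSmoothLocalST_flat : IsSmoothLocalST (LocP (S := S) @Flat) :=
  isSmoothLocalST_locP smooth_le_flat'

theorem isSmoothLocalST_lft : IsSmoothLocalST (LocP (S := S) @LocallyOfFiniteType) :=
  isSmoothLocalST_locP smooth_le_lft'

theorem isSmoothLocalST_lfp : IsSmoothLocalST (LocP (S := S) @LocallyOfFinitePresentation) :=
  isSmoothLocalST_locP smooth_le_lfp'

end Groth.Agent.H3.SmSrc
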