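import Mathlib
import Groth.Agent.Lib.Helper3.CA.SmoothDescent
import Groth.Agent.Lib.Helper3.SmSrc.LocP

/-!
# Smoothness is smooth local on the source (helper3)
-/

set_option autoImplicit false
universe u
open CategoryTheory CategoryTheory.Limits AlgebraicGeometry MorphismProperty TensorProduct

namespace Groth.Agent.H3.SmSrc

instance isSmoothLocalSource_smooth :
    IsSmoothLocalSource (@Smooth : MorphismProperty Scheme.{u}) := by
  refine isSmoothLocalSource_of_ringHom (Q := RingHom.Smooth) ?_
  intro A B C _ _ _ φ ψ hψ hs h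
  algebraize [φ, ψ, ψ.comp φ]
  have := faithfullyFlat_of_smooth_of_comap_surjective (B := B) (C := C) hs
  exact RingHom.smooth_algebraMap.mpr
    (Groth.Agent.H3.SmoothDescent.smooth_of_smooth_of_faithfullyFlat (A := A) (B := B) (C := C))

variable {S : Scheme.{u}}

theorem isSmoothLocalST_smooth : AlgSp.IsSmoothLocalST (AlgSp.LocP (S := S) @Smooth) :=
  isSmoothLocalST_locP le_rfl

end Groth.Agent.H3.SmSrc
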