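import Mathlib
import Groth.Agent.Lib.Helper1.SourceDescent


set_option autoImplicit false
universe u
open CategoryTheory CategoryTheory.Limits AlgebraicGeometry MorphismProperty

namespace Groth.Agent.H3.FppfSrc

/-- locally of finite type is fppf local at the source -/
instance isLocalAtSource_fppf_lft :
    MorphismProperty.IsLocalAtSource (@LocallyOfFiniteType : MorphismProperty Scheme.{u})
      Scheme.fppfPrecoverage := by
  apply IsLocalAtSource.mk_of_iff_of_zeroHypercover
  intro X Y f 𝒰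
  have h𝒰 : 𝒰.presieve₀ ∈ Scheme.precoverage
      (@Flat ⊓ @LocallyOfFinitePresentation : MorphismProperty Scheme.{u}) X := 𝒰.mem₀
  rw [Scheme.presieve₀_mem_precoverage_iff] at h𝒰
  constructor
  · intro hf i
    have h1 : Flat (𝒰.f i) := (h𝒰.2 i).1
    have h2 : LocallyOfFinitePresentation (𝒰.f i) := (h𝒰.2 i).2
    have : LocallyOfFiniteType f := hf
    exact (inferInstance : LocallyOfFiniteType (𝒰.f i ≫ f))
  · intro h
    have h1 : ∀ i, Flat (𝒰.f i) := fun i => (h𝒰.2 i).1
    have h2 : ∀ i, LocallyOfFinitePresentation (𝒰.f i) := fun i => (h𝒰.2 i).2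
    exact Groth.Agent.H1.SourceDescent.locallyOfFiniteType_of_family 𝒰.X 𝒰.f f h𝒰.1 h

end Groth.Agent.H3.FppfSrc

namespace Groth.Agent.H3.FppfSrc

open Groth.Agent.H1.SourceDescent in
theorem locallyOfFinitePresentation_of_family {Y S : Scheme.{u}} {ι : Type*}
    (Xs : ι → Scheme.{u}) (fs : ∀ i, Xs i ⟶ Y) (q : Y ⟶ S) [∀ i, Flat (fs i)]
    [∀ i, LocallyOfFinitePresentation (fs i)]
    (hsurj : ∀ y : Y, ∃ i, y ∈ Set.range (fs i).base)
    (h : ∀ i, LocallyOfFinitePresentation (fs i ≫ q)) : LocallyOfFinitePresentation q :=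
  descends_family (P := @LocallyOfFinitePresentation) (W := @Flat)
    RingHom.Flat.containsIdentities
    (fun φ ψ h1 h2 _ h3 => finitePresentation_of_comp φ ψ h1 h2 h3) Xs fs q
    (fun _ => inferInstance) hsurj h

/-- locally of finite presentation is fppf local at the source -/
instance isLocalAtSource_fppf_lfp :
    MorphismProperty.IsLocalAtSource (@LocallyOfFinitePresentation : MorphismProperty Scheme.{u})
      Scheme.fppfPrecoverage := by
  apply IsLocalAtSource.mk_of_iff_of_zeroHypercover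
  intro X Y f 𝒰
  have h𝒰 : 𝒰.presieve₀ ∈ Scheme.precoverage
      (@Flat ⊓ @LocallyOfFinitePresentation : MorphismProperty Scheme.{u}) X := 𝒰.mem₀
  rw [Scheme.presieve₀_mem_precoverage_iff] at h𝒰
  constructor
  · intro hf i
    have h2 : LocallyOfFinitePresentation (𝒰.f i) := (h𝒰.2 i).2
    have : LocallyOfFinitePresentation f := hf
    exact (inferInstance : LocallyOfFinitePresentation (𝒰.f i ≫ f))
  · intro h
    have h1 : ∀ i, Flat (𝒰.f i) := fun i => (h𝒰.2 i).1
    have h2 : ∀ i, LocallyOfFinitePresentation (𝒰.f i) := fun i => (h𝒰.2 i).2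
    exact locallyOfFinitePresentation_of_family 𝒰.X 𝒰.f f h𝒰.1 h

end Groth.Agent.H3.FppfSrc
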