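import Mathlib
import Groth.Agent.S2805
import Groth.Agent.Lib.Helper3.SmSrc.FppfSrc
import Groth.Agent.Lib.Helper3.EtSmQf

/-!
# Smoothness and étaleness descend along fppf coverings of the source (schemes)
-/

set_option autoImplicit false
universe u
open CategoryTheory CategoryTheory.Limits AlgebraicGeometry MorphismProperty

namespace Groth.Agent.H3.FppfSm

/-- Smoothness of `q` can be checked after precomposing with a jointly surjective family of flat
morphisms locally of finite presentation. -/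
theorem smooth_of_family {Y S : Scheme.{u}} {ι : Type*}
    (Xs : ι → Scheme.{u}) (fs : ∀ i, Xs i ⟶ Y) (q : Y ⟶ S) [∀ i, Flat (fs i)]
    [∀ i, LocallyOfFinitePresentation (fs i)]
    (hsurj : ∀ y : Y, ∃ i, y ∈ Set.range (fs i).base)
    (h : ∀ i, Smooth (fs i ≫ q)) : Smooth q := by
  have hq : LocallyOfFinitePresentation q :=
    Groth.Agent.H3.FppfSrc.locallyOfFinitePresentation_of_family Xs fs q hsurj
      (fun i => inferInstance)
  have key : ∀ y : Y, ∃ V : Y.Opens, y ∈ V ∧ Smooth (V.ι ≫ q) := by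
    intro y
    obtain ⟨i, x, rfl⟩ := hsurj y
    have hh : ∃ U : (Xs i).Opens, x ∈ U ∧ Smooth (U.ι ≫ (fs i ≫ q)) :=
      ⟨⊤, trivial, inferInstance⟩
    exact Groth.Agent.S2805.result q (fs i ≫ q) (fs i) rfl x (Flat.stalkMap (fs i) x) hh
  choose V hyV hV using key
  refine IsZariskiLocalAtSource.of_iSup_eq_top (P := @Smooth) V ?_ hV
  rw [eq_top_iff]
  rintro y -
  simp only [TopologicalSpace.Opens.mem_iSup]
  exact ⟨y, hyV y⟩

/-- A subset whose preimages under a jointly surjective family of open maps are discrete is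
discrete. -/
theorem isDiscrete_of_family {Y : Type*} [TopologicalSpace Y] {ι : Type*} {X : ι → Type*}
    [∀ i, TopologicalSpace (X i)] (f : ∀ i, X i → Y) (hf : ∀ i, IsOpenMap (f i))
    (T : Set Y) (hsurj : ∀ y ∈ T, ∃ i, y ∈ Set.range (f i))
    (h : ∀ i, IsDiscrete (f i ⁻¹' T)) : IsDiscrete T := by
  rw [isDiscrete_iff_forall_mem_exists_isOpen]
  intro y hy
  obtain ⟨i, x, rfl⟩ := hsurj y hy
  obtain ⟨u, hu, hux⟩ := (isDiscrete_iff_forall_mem_exists_isOpen.1 (h i)) x hy
  refine ⟨f i '' u, hf i u hu, ?_⟩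
  apply Set.Subset.antisymm
  · rintro _ ⟨⟨z, hz, rfl⟩, hzT⟩
    have : z ∈ u ∩ f i ⁻¹' T := ⟨hz, hzT⟩
    rw [hux] at this
    rw [Set.mem_singleton_iff] at this ⊢
    rw [this]
  · rintro _ rfl
    have : x ∈ u ∩ f i ⁻¹' T := by rw [hux]; rfl
    exact ⟨⟨x, this.1, rfl⟩, hy⟩

/-- Local quasi-finiteness of `q` can be checked after precomposing with a jointly surjective
family of open morphisms. -/
theorem locallyQuasiFinite_of_family {Y S : Scheme.{u}} {ι : Type*}
    (Xs : ι → Scheme.{u}) (fs : ∀ i, Xs i ⟶ Y) (q : Y ⟶ S) [LocallyOfFiniteType q]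
    (hopen : ∀ i, IsOpenMap (fs i).base)
    (hsurj : ∀ y : Y, ∃ i, y ∈ Set.range (fs i).base)
    (h : ∀ i, LocallyQuasiFinite (fs i ≫ q)) : LocallyQuasiFinite q := by
  rw [locallyQuasiFinite_iff_isDiscrete_preimage_singleton]
  intro s
  refine isDiscrete_of_family (fun i => (fs i).base) hopen _ (fun y _ => hsurj y) fun i => ?_
  have := (fs i ≫ q).isDiscrete_preimage_singleton s
  exact this

/-- Étaleness of `q` can be checked after precomposing with a jointly surjective family of flat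
morphisms locally of finite presentation. -/
theorem etale_of_family {Y S : Scheme.{u}} {ι : Type*}
    (Xs : ι → Scheme.{u}) (fs : ∀ i, Xs i ⟶ Y) (q : Y ⟶ S) [∀ i, Flat (fs i)]
    [∀ i, LocallyOfFinitePresentation (fs i)]
    (hsurj : ∀ y : Y, ∃ i, y ∈ Set.range (fs i).base)
    (h : ∀ i, Etale (fs i ≫ q)) : Etale q := by
  have hsm : Smooth q := smooth_of_family Xs fs q hsurj fun i => inferInstance
  rw [Groth.Agent.H3.EtSmQf.main]
  refine ⟨hsm, ?_⟩
  refine locallyQuasiFinite_of_family Xs fs q (fun i => (fs i).isOpenMap) hsurj fun i => ?_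
  exact ((Groth.Agent.H3.EtSmQf.main (fs i ≫ q)).1 (h i)).2

end Groth.Agent.H3.FppfSm
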