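import Mathlib
import Groth.Agent.Lib.Helper3.SmSrc.FppfSrc
import Groth.Agent.Lib.Helper5.EtSrc.OfComp

set_option autoImplicit false
universe u
open CategoryTheory CategoryTheory.Limits AlgebraicGeometry MorphismProperty TensorProduct

namespace Groth.Agent.H3.FppfSrc

section Algebra

variable {R B A D : Type*} [CommRing R] [CommRing B] [CommRing A] [CommRing D]
  [Algebra R B] [Algebra B A] [Algebra R A] [IsScalarTower R B A]
  [Algebra A D] [Algebra B D] [Algebra R D] [IsScalarTower B A D] [IsScalarTower R B D]

/-- the universally injective trick: if `B → A → D` is faithfully flat and `A` is flat over `R`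
then `B` is flat over `R`. -/
lemma flat_of_flat_of_faithfullyFlat_comp [Module.Flat R A] [Module.FaithfullyFlat B D] :
    Module.Flat R B := by
  have : IsScalarTower R A D := IsScalarTower.of_algebraMap_eq fun r => by
    rw [IsScalarTower.algebraMap_apply R B D, IsScalarTower.algebraMap_apply B A D,
      ← IsScalarTower.algebraMap_apply R B A]
  rw [Module.Flat.iff_lTensor_preserves_injective_linearMap]
  intro N N' _ _ _ _ l hl
  -- the comparison maps
  let ψ : B →ₗ[R] A := (IsScalarTower.toAlgHom R B A).toLinearMap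
  let γ : B →ₗ[R] D := (IsScalarTower.toAlgHom R B D).toLinearMap
  let ρ : A →ₗ[R] D := (IsScalarTower.toAlgHom R A D).toLinearMap
  have hγ : γ = ρ ∘ₗ ψ := by
    ext b
    change algebraMap B D b = algebraMap A D (algebraMap B A b)
    rw [← IsScalarTower.algebraMap_apply]
  -- `γ ⊗ N` is injective
  have h1 : Function.Injective (γ.rTensor N) := by
    have h2 : Function.Injective (TensorProduct.mk B D (B ⊗[R] N) 1) :=
      Module.FaithfullyFlat.tensorProduct_mk_injective (A := B) (B := D) _
    have h3 : ∀ x : B ⊗[R] N, γ.rTensor N x =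
        (AlgebraTensorModule.cancelBaseChange R B D D N) (TensorProduct.mk B D (B ⊗[R] N) 1 x) := by
      intro x
      induction x using TensorProduct.induction_on with
      | zero => simp
      | tmul b n =>
        simp [γ, Algebra.smul_def]
      | add x y hx hy => rw [map_add, map_add, hx, hy, map_add]
    intro x y hxy
    rw [h3, h3] at hxy
    exact h2 ((AlgebraTensorModule.cancelBaseChange R B D D N).injective hxy)
  have h4 : Function.Injective (ψ.rTensor N) := by
    have : γ.rTensor N = (ρ.rTensor N) ∘ₗ (ψ.rTensor N) := by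
      rw [hγ, LinearMap.rTensor_comp]
    rw [this] at h1
    exact Function.Injective.of_comp h1
  have h5 : Function.Injective (l.lTensor A) :=
    Module.Flat.lTensor_preserves_injective_linearMap l hl
  have h6 : (ψ.rTensor N') ∘ₗ (l.lTensor B) = (l.lTensor A) ∘ₗ (ψ.rTensor N) := by
    rw [LinearMap.rTensor_comp_lTensor, LinearMap.lTensor_comp_rTensor]
  have h7 : Function.Injective ((ψ.rTensor N') ∘ₗ (l.lTensor B)) := by
    rw [h6]
    exact h5.comp h4
  exact Function.Injective.of_comp h7

end Algebra

/-- ring hom version -/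
lemma ringHom_flat_of_comp_of_comp_local {R B A D : Type u} [CommRing R] [CommRing B] [CommRing A]
    [CommRing D] [IsLocalRing B] [IsLocalRing D] (φ : R →+* B) (ψ : B →+* A) (ρ : A →+* D)
    [IsLocalHom (ρ.comp ψ)] (h1 : (ψ.comp φ).Flat) (h2 : (ρ.comp ψ).Flat) : φ.Flat := by
  algebraize [φ, ψ, ρ, ψ.comp φ, ρ.comp ψ, (ρ.comp ψ).comp φ]
  have : IsLocalHom (algebraMap B D) := ‹IsLocalHom (ρ.comp ψ)›
  have : Module.FaithfullyFlat B D := Module.FaithfullyFlat.of_flat_of_isLocalHom
  exact flat_of_flat_of_faithfullyFlat_comp (R := R) (B := B) (A := A) (D := D)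

/-- if `m ≫ k` is flat and `m` has sections locally for flat surjective families then `k` is
flat -/
theorem flat_of_local_sections {U V W : Scheme.{u}} (m : U ⟶ V) (k : V ⟶ W) (h : Flat (m ≫ k))
    (hloc : ∀ v : V, ∃ (T : Scheme.{u}) (t : T ⟶ V) (s : T ⟶ U),
      Flat t ∧ v ∈ Set.range t ∧ s ≫ m = t) : Flat k := by
  rw [Flat.iff_flat_stalkMap]
  intro v
  obtain ⟨T, t, s, ht, ⟨w, rfl⟩, hst⟩ := hloc v
  subst hst
  have h1 := Flat.stalkMap (m ≫ k) (s w)
  have h2 := Flat.stalkMap (s ≫ m) w
  have hloc : IsLocalHom ((s ≫ m).stalkMap w).hom := inferInstance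
  rw [Scheme.Hom.stalkMap_comp] at h1 h2 hloc
  have : IsLocalHom ((s.stalkMap w).hom.comp (m.stalkMap (s w)).hom) := hloc
  exact ringHom_flat_of_comp_of_comp_local (k.stalkMap (m (s w))).hom (m.stalkMap (s w)).hom
    (s.stalkMap w).hom h1 h2

/-- if `m ≫ k` is locally of finite type and `m` has sections locally for fppf families then
`k` is locally of finite type -/
theorem lft_of_local_sections {U V W : Scheme.{u}} (m : U ⟶ V) (k : V ⟶ W)
    (h : LocallyOfFiniteType (m ≫ k))
    (hloc : ∀ v : V, ∃ (T : Scheme.{u}) (t : T ⟶ V) (s : T ⟶ U),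
      Flat t ∧ LocallyOfFinitePresentation t ∧ v ∈ Set.range t ∧ s ≫ m = t) :
    LocallyOfFiniteType k := by
  choose T t s ht1 ht2 hv hst using hloc
  refine Groth.Agent.H1.SourceDescent.locallyOfFiniteType_of_family T t k (fun v => ⟨v, hv v⟩) ?_
  intro v
  have h1 : LocallyOfFiniteType (s v ≫ m) := by
    rw [hst v]; have := ht2 v; infer_instance
  have h2 : LocallyOfFiniteType (s v) := locallyOfFiniteType_of_comp (s v) m
  rw [← hst v, Category.assoc]
  infer_instance

/-- if `m ≫ k` is locally of finite presentation and `m` has sections locally for fppf families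
then `k` is locally of finite presentation -/
theorem lfp_of_local_sections {U V W : Scheme.{u}} (m : U ⟶ V) (k : V ⟶ W)
    (h : LocallyOfFinitePresentation (m ≫ k))
    (hloc : ∀ v : V, ∃ (T : Scheme.{u}) (t : T ⟶ V) (s : T ⟶ U),
      Flat t ∧ LocallyOfFinitePresentation t ∧ v ∈ Set.range t ∧ s ≫ m = t) :
    LocallyOfFinitePresentation k := by
  choose T t s ht1 ht2 hv hst using hloc
  refine locallyOfFinitePresentation_of_family T t k (fun v => ⟨v, hv v⟩) ?_
  intro v
  have h0 : LocallyOfFiniteType (m ≫ k) := inferInstance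
  have h1 : LocallyOfFiniteType m := locallyOfFiniteType_of_comp m k
  have h2 : LocallyOfFinitePresentation (s v) :=
    Groth.Agent.H5.EtSrc.locallyOfFinitePresentation_of_comp (s v) m (by rw [hst v]; exact ht2 v) h1
  rw [← hst v, Category.assoc]
  infer_instance

end Groth.Agent.H3.FppfSrc
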