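import Mathlib
import Groth.Agent.Lib.Helper3.SmSrc.LocSections
import Groth.Agent.Lib.Helper5.AlgSp.DiagPres
import Groth.Agent.Lib.Helper5.AlgSp.FppfLocal
import Groth.Agent.Lib.Helper5.AlgSp.RepOver

set_option autoImplicit false
universe u
open CategoryTheory CategoryTheory.Limits AlgebraicGeometry MorphismProperty

namespace Groth.Agent.H3.FppfSrc

open _root_.AlgSp Groth.Agent.H5.AlgSp

variable {S : Scheme.{u}}

/-- a covering sieve of the big fppf site contains, around each point, a flat locally finitely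
presented member -/
lemma exists_fppf_of_mem_J {V : Over S} (R : Sieve V) (hR : R ∈ AlgSp.J S V) (v : V.left) :
    ∃ (T : Over S) (t : T ⟶ V), R t ∧ Flat t.left ∧ LocallyOfFinitePresentation t.left ∧
      v ∈ Set.range t.left := by
  rw [GrothendieckTopology.mem_over_iff,
    Precoverage.mem_toGrothendieck_iff_of_isStableUnderComposition] at hR
  obtain ⟨R₀, hR₀, hle⟩ := hR
  obtain ⟨T₀, t₀, ht₀, hv⟩ := exists_mem_range_of_mem_fppf hR₀ v
  have h1 : (Sieve.overEquiv V R) t₀ := hle _ _ ht₀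
  rw [Sieve.overEquiv_iff] at h1
  have h2 : (@Flat ⊓ @LocallyOfFinitePresentation : MorphismProperty Scheme.{u}) t₀ := hR₀.2 ht₀
  exact ⟨Over.mk (t₀ ≫ V.hom), Over.homMk t₀, h1, h2.1, h2.2, hv⟩

end Groth.Agent.H3.FppfSrc

namespace Groth.Agent.H3.FppfSrc

open _root_.AlgSp Groth.Agent.H5.AlgSp

variable {S : Scheme.{u}}

/-- **Stacks 06NB, general form**: a property of morphisms of schemes which descends along
morphisms having sections fppf locally, descends (for `LocP`) along surjections of fppf sheaves -/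
theorem locP_of_locallySurjective_comp (P : MorphismProperty Scheme.{u})
    (hP : ∀ {U V W : Scheme.{u}} (m : U ⟶ V) (k : V ⟶ W), P (m ≫ k) →
      (∀ v : V, ∃ (T : Scheme.{u}) (t : T ⟶ V) (s : T ⟶ U), Flat t ∧
        LocallyOfFinitePresentation t ∧ v ∈ Set.range t ∧ s ≫ m = t) → P k)
    {X Y Z : AlgSp.Space S} (g : X ⟶ Y) (h : Y ⟶ Z) (hg : Sheaf.IsLocallySurjective g.hom)
    (hgh : AlgSp.LocP P (g ≫ h).hom) : AlgSp.LocP P h.hom := by
  intro V W a b k hae hbe comm
  -- the base change of `X` to the chart `V`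
  have sqXV : IsPullback (pullback.fst g.hom a) (pullback.snd g.hom a) g.hom a :=
    IsPullback.of_hasPullback _ _
  have hp₁ : RepWith @Etale (pullback.fst g.hom a) := (RepWith @Etale).of_isPullback sqXV.flip hae
  have hXV : IsAlgSpace (pullback g.hom a) := isAlgSpace_of_representable X.property _ hp₁.1
  obtain ⟨U, q, hqe, hqs⟩ := hXV.atlas
  obtain ⟨m, hm⟩ : ∃ m : U ⟶ V, (yon S).map m = q ≫ pullback.snd g.hom a :=
    ⟨(yon S).preimage _, (yon S).map_preimage _⟩
  have hchart : P (m ≫ k).left := by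
    refine hgh (q ≫ pullback.fst g.hom a) b (m ≫ k)
      ((RepWith @Etale).comp_mem _ _ hqe hp₁) hbe ?_
    change (q ≫ pullback.fst g.hom a) ≫ g.hom ≫ h.hom = _
    rw [Functor.map_comp, hm, Category.assoc, Category.assoc, Category.assoc, ← comm,
      pullback.condition_assoc]
  rw [Over.comp_left] at hchart
  refine hP m.left k.left hchart ?_
  intro v
  obtain ⟨T, t, ⟨τ, hτ⟩, ht1, ht2, w, hw⟩ :=
    exists_fppf_of_mem_J _ (liftSieve_mem g.hom a) v
  -- the section of the base change over `T`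
  obtain ⟨σ, hσ⟩ : ∃ σ : (yon S).obj T ⟶ pullback g.hom a, σ = pullback.lift τ ((yon S).map t) hτ :=
    ⟨_, rfl⟩
  have hσ1 : σ ≫ pullback.snd g.hom a = (yon S).map t := by rw [hσ, pullback.lift_snd]
  have sq' := hqe.rep.isPullback' σ
  have hre : Etale (hqe.rep.snd σ).left := hqe.property_snd σ
  have hrs : Surjective (hqs.rep.snd σ).left := hqs.property_snd σ
  obtain ⟨w', hw'⟩ := hrs.surj w
  refine ⟨(hqe.rep.pullback σ).left, (hqe.rep.snd σ).left ≫ t.left, (hqe.rep.fst' σ).left,
    inferInstance, inferInstance, ⟨w', ?_⟩, ?_⟩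
  · rw [Scheme.Hom.comp_apply, hw', hw]
  · rw [← Over.comp_left, ← Over.comp_left]
    congr 1
    apply (yon S).map_injective
    rw [Functor.map_comp, Functor.map_comp, hm, ← hσ1, ← Category.assoc, sq'.w, Category.assoc]

end Groth.Agent.H3.FppfSrc

namespace Groth.Agent.H3.FppfSrc

open _root_.AlgSp Groth.Agent.H5.AlgSp

variable {S : Scheme.{u}}

/-- **S10557** -/
theorem locP_of_sheaf_surjection {X Y Z : AlgSp.Space S} (g : X ⟶ Y) (h : Y ⟶ Z)
    (hg : Sheaf.IsLocallySurjective g.hom) :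
    (AlgSp.LocP @Flat (g ≫ h).hom → AlgSp.LocP @Flat h.hom) ∧
    (AlgSp.LocP @LocallyOfFiniteType (g ≫ h).hom → AlgSp.LocP @LocallyOfFiniteType h.hom) ∧
    (AlgSp.LocP @LocallyOfFinitePresentation (g ≫ h).hom →
      AlgSp.LocP @LocallyOfFinitePresentation h.hom) := by
  refine ⟨locP_of_locallySurjective_comp @Flat ?_ g h hg,
    locP_of_locallySurjective_comp @LocallyOfFiniteType ?_ g h hg,
    locP_of_locallySurjective_comp @LocallyOfFinitePresentation ?_ g h hg⟩
  · intro U V W m k hmk hloc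
    refine flat_of_local_sections m k hmk (fun v => ?_)
    obtain ⟨T, t, s, h1, h2, h3, h4⟩ := hloc v
    exact ⟨T, t, s, h1, h3, h4⟩
  · intro U V W m k hmk hloc
    exact lft_of_local_sections m k hmk hloc
  · intro U V W m k hmk hloc
    exact lfp_of_local_sections m k hmk hloc

end Groth.Agent.H3.FppfSrc
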