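import Mathlib
import Groth.Agent.Lib.Helper3.SmSrc.FppfSrc
import Groth.Agent.Lib.Helper3.SmSrc.Smooth
import Groth.Agent.Lib.Helper3.AlgSpCov.SourceLocP

set_option autoImplicit false
universe u
open CategoryTheory CategoryTheory.Limits AlgebraicGeometry MorphismProperty

namespace Groth.Agent.H3.FppfSrc

open _root_.AlgSp Groth.Agent.H3.AlgSpCov

variable {S : Scheme.{u}}

/-- **S10558** -/
theorem locP_of_fppf_comp {X Y B : AlgSp.Space S} (f : X ⟶ Y) (q : Y ⟶ B)
    (hs : AlgSp.IsSurjectiveMor f.hom) (hfl : AlgSp.LocP @Flat f.hom)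
    (hfp : AlgSp.LocP @LocallyOfFinitePresentation f.hom) :
    (AlgSp.LocP @LocallyOfFinitePresentation (f ≫ q).hom →
      AlgSp.LocP @LocallyOfFinitePresentation q.hom) ∧
    (AlgSp.LocP @LocallyOfFiniteType (f ≫ q).hom → AlgSp.LocP @LocallyOfFiniteType q.hom) := by
  have hcov : AlgSp.IsFppfCover (fun _ : PUnit.{u + 1} => X.obj) (fun _ => f.hom) :=
    ⟨fun _ => ⟨hfl, hfp⟩, fun y => ⟨PUnit.unit, hs y⟩⟩
  constructor
  · intro h
    exact ((isLocalOnSource_fppf_locP_of S @LocallyOfFinitePresentation _ _ Y.property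
      (fun _ => X.property) hcov q.hom B.property).2 fun _ => h)
  · intro h
    exact ((isLocalOnSource_fppf_locP_of S @LocallyOfFiniteType _ _ Y.property
      (fun _ => X.property) hcov q.hom B.property).2 fun _ => h)

/-- **S10559**, smooth part -/
theorem locP_smooth_of_smooth_comp {X Y B : AlgSp.Space S} (f : X ⟶ Y) (q : Y ⟶ B)
    (hs : AlgSp.IsSurjectiveMor f.hom) (hf : AlgSp.LocP @Smooth f.hom)
    (h : AlgSp.LocP @Smooth (f ≫ q).hom) : AlgSp.LocP @Smooth q.hom := by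
  have hcov : AlgSp.IsSmCover (fun _ : PUnit.{u + 1} => X.obj) (fun _ => f.hom) :=
    ⟨fun _ => hf, fun y => ⟨PUnit.unit, hs y⟩⟩
  exact ((Groth.Agent.H3.SmSrc.isLocalOnSource_sm_locP le_rfl _ _ Y.property
    (fun _ => X.property) hcov q.hom B.property).2 fun _ => h)

/-- **S10559**, étale part -/
theorem isEtaleMor_of_etale_comp {X Y B : AlgSp.Space S} (f : X ⟶ Y) (q : Y ⟶ B)
    (hs : AlgSp.IsSurjectiveMor f.hom) (hf : AlgSp.IsEtaleMor f.hom)
    (h : AlgSp.IsEtaleMor (f ≫ q).hom) : AlgSp.IsEtaleMor q.hom := by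
  have hcov : AlgSp.IsEtCover (fun _ : PUnit.{u + 1} => X.obj) (fun _ => f.hom) :=
    ⟨fun _ => hf, fun y => ⟨PUnit.unit, hs y⟩⟩
  exact ((isLocalOnSource_et_isEtaleMor _ _ Y.property
    (fun _ => X.property) hcov q.hom B.property).2 fun _ => h)

end Groth.Agent.H3.FppfSrc
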