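import Mathlib
import Groth.Agent.Lib.Helper3.SmSrc.FppfSm
import Groth.Agent.Lib.Helper3.SmSrc.FppfComp

/-!
# Smoothness and étaleness descend along fppf coverings of the source (algebraic spaces)
-/

set_option autoImplicit false
set_option linter.unusedSectionVars false
universe u
open CategoryTheory CategoryTheory.Limits AlgebraicGeometry MorphismProperty

namespace Groth.Agent.H3.FppfSm

open _root_.AlgSp Groth.Agent.H3.AlgSpCov Groth.Agent.H5.AlgSp Groth.Agent.H5.EtSrc

variable {S : Scheme.{u}}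

/-- One-directional version of `locP_of_source_cover`: `LocP P` can be checked on a covering of
the source, provided `P` descends along the induced families of schemes over étale charts. -/
theorem locP_of_source_cover' {P : MorphismProperty Scheme.{u}} {K : Precoverage Scheme.{u}}
    (hdesc : ∀ {A B : Scheme.{u}} (q : A ⟶ B) {ι : Type u} (Xs : ι → Scheme.{u})
      (fs : ∀ i, Xs i ⟶ A), Presieve.ofArrows Xs fs ∈ K A → (∀ i, P (fs i ≫ q)) → P q)
    {ι : Type u} {X Y : Sp S} (hX : IsAlgSpace X) (Xi : ι → Sp S)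
    (hXi : ∀ i, IsAlgSpace (Xi i)) (g : ∀ i, Xi i ⟶ X) (f : X ⟶ Y)
    (hcov : ∀ (U : Over S) (a : (yon S).obj U ⟶ X), RepWith @Etale a →
      ∀ (T : ι → Over S) (α : ∀ i, (yon S).obj (T i) ⟶ pullback a (g i)),
      (∀ i, RepWith @Etale (α i)) → (∀ i, RepWith @Surjective (α i)) →
      ∀ (t : ∀ i, T i ⟶ U), (∀ i, (yon S).map (t i) = α i ≫ pullback.fst a (g i)) →
      Presieve.ofArrows (fun i => (T i).left) (fun i => (t i).left) ∈ K U.left)
    (h : ∀ i, LocP P (g i ≫ f)) : LocP P f := by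
  intro U V a b k ha hb comm
  have hUi : ∀ i, IsAlgSpace (pullback a (g i)) := fun i =>
    isAlgSpace_pullback hX.diag (IsAlgSpace.yon_obj U) (hXi i) (IsPullback.of_hasPullback _ _)
  choose T α hαe hαs using fun i => (hUi i).atlas
  choose t ht using fun i => (yon S).map_surjective (α i ≫ pullback.fst a (g i))
  have hmem := hcov U a ha T α hαe hαs t ht
  refine hdesc k.left _ _ hmem ?_
  intro i
  have hsnd : RepWith @Etale (pullback.snd a (g i)) :=
    MorphismProperty.of_isPullback (P := RepWith @Etale) (IsPullback.of_hasPullback a (g i)) ha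
  have := h i (α i ≫ pullback.snd a (g i)) b (t i ≫ k)
    ((RepWith @Etale).comp_mem _ _ (hαe i) hsnd) hb (by
      rw [Category.assoc, ← Category.assoc (pullback.snd a (g i)), ← pullback.condition,
        Category.assoc, comm, Functor.map_comp, ht i, Category.assoc, Category.assoc])
  rwa [Over.comp_left] at this

/-- `LocP P` descends along fppf coverings of the source as soon as `P` does so for schemes. -/
theorem locP_of_fppf_cover {P : MorphismProperty Scheme.{u}}
    (hdesc : ∀ {A B : Scheme.{u}} (q : A ⟶ B) {ι : Type u} (Xs : ι → Scheme.{u})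
      (fs : ∀ i, Xs i ⟶ A), (∀ i, Flat (fs i)) → (∀ i, LocallyOfFinitePresentation (fs i)) →
      (∀ y : A, ∃ i, y ∈ Set.range (fs i).base) → (∀ i, P (fs i ≫ q)) → P q)
    {ι : Type u} {X Y : Sp S} (hX : IsAlgSpace X) (Xi : ι → Sp S)
    (hXi : ∀ i, IsAlgSpace (Xi i)) (g : ∀ i, Xi i ⟶ X) (hcov : IsFppfCover Xi g) (f : X ⟶ Y)
    (h : ∀ i, LocP P (g i ≫ f)) : LocP P f := by
  have hg : ∀ i, LocP (@Flat ⊓ @LocallyOfFinitePresentation : MorphismProperty Scheme.{u}) (g i) :=
    fun i _ _ a b k ha hb comm =>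
    ⟨(hcov.1 i).1 a b k ha hb comm, (hcov.1 i).2 a b k ha hb comm⟩
  have hle : (@Etale : MorphismProperty Scheme.{u}) ≤
      (@Flat ⊓ @LocallyOfFinitePresentation : MorphismProperty Scheme.{u}) :=
    fun _ _ f hf => ⟨etale_le_flat _ _ f hf, etale_le_lfp _ _ f hf⟩
  refine locP_of_source_cover' (K := Scheme.fppfPrecoverage) ?_ hX Xi hXi g f ?_ h
  · intro A B q κ Xs fs hmem hP
    have hmem' : Presieve.ofArrows Xs fs ∈ Scheme.precoverage
      (@Flat ⊓ @LocallyOfFinitePresentation : MorphismProperty Scheme.{u}) A := hmem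
    rw [Scheme.ofArrows_mem_precoverage_iff] at hmem'
    exact hdesc q Xs fs (fun i => (hmem'.2 i).1) (fun i => (hmem'.2 i).2) hmem'.1 hP
  · intro U a ha T α hαe hαs t ht
    exact chart_family_mem_precoverage hX Xi hXi g hle hg hcov.2 U a T α hαe hαs t ht

/-- **S10560**, smooth part -/
theorem locP_smooth_of_fppf_comp {X Y B : AlgSp.Space S} (f : X ⟶ Y) (q : Y ⟶ B)
    (hs : AlgSp.IsSurjectiveMor f.hom) (hfl : AlgSp.LocP @Flat f.hom)
    (hfp : AlgSp.LocP @LocallyOfFinitePresentation f.hom)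
    (h : AlgSp.LocP @Smooth (f ≫ q).hom) : AlgSp.LocP @Smooth q.hom := by
  have hcov : AlgSp.IsFppfCover (fun _ : PUnit.{u + 1} => X.obj) (fun _ => f.hom) :=
    ⟨fun _ => ⟨hfl, hfp⟩, fun y => ⟨PUnit.unit, hs y⟩⟩
  refine locP_of_fppf_cover (P := @Smooth) ?_ Y.property _ (fun _ => X.property) _ hcov q.hom
    fun _ => h
  intro A B q κ Xs fs h1 h2 h3 h4
  exact smooth_of_family Xs fs q h3 h4

/-- **S10560**, étale part -/
theorem isEtaleMor_of_fppf_comp {X Y B : AlgSp.Space S} (f : X ⟶ Y) (q : Y ⟶ B)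
    (hs : AlgSp.IsSurjectiveMor f.hom) (hfl : AlgSp.LocP @Flat f.hom)
    (hfp : AlgSp.LocP @LocallyOfFinitePresentation f.hom)
    (h : AlgSp.IsEtaleMor (f ≫ q).hom) : AlgSp.IsEtaleMor q.hom := by
  have hcov : AlgSp.IsFppfCover (fun _ : PUnit.{u + 1} => X.obj) (fun _ => f.hom) :=
    ⟨fun _ => ⟨hfl, hfp⟩, fun y => ⟨PUnit.unit, hs y⟩⟩
  rw [isEtaleMor_iff_locP B.property] at h ⊢
  refine locP_of_fppf_cover (P := @Etale) ?_ Y.property _ (fun _ => X.property) _ hcov q.hom
    fun _ => h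
  intro A B q κ Xs fs h1 h2 h3 h4
  exact etale_of_family Xs fs q h3 h4

end Groth.Agent.H3.FppfSm
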